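import Mathlib
import Cfsg.Agent.S2638
import Cfsg.Agent.S0242
import Cfsg.Agent.S0243
import Cfsg.Agent.ClassicalGeometry.GUBasic
import Cfsg.Agent.S0278
import Cfsg.Agent.S0279
import Cfsg.Agent.FastGrp
import Cfsg.Agent.Prune
set_option linter.all false

section
prune_inst 0x7f00000000000000000000000000000000000000000000000000000000000000000000000000000000000000000000000000000000000000000000000000000000000000000000000000000000000000003fffffffffffffffffffffffffffbeffbdffffffff

-- part: H809/SelfCentLin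
section
set_option linter.all false
open scoped Cfsg.Agent.FastGrp

-- part: H809/SelfCentBase
section
/-!
# Self-centralising subgroups of prime order modulo the centre (helper809, tasks 203, 204)
-/

set_option autoImplicit false

namespace Cfsg.Agent.H809.SelfCent

open Subgroup

/-- image modulo the centre of an element of prime order with small centraliser -/
theorem quot_cent {H : Type*} [Group H] [Finite H] {r : ℕ} (hr : r.Prime) (hrZ : ¬ r ∣ Nat.card (center H))
    (x : H) (hx : orderOf x = r) (hle : Nat.card (centralizer ({x} : Set H)) ≤ r * Nat.card (center H)) :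
    ∃ R : Subgroup (H ⧸ center H), Nat.card R = r ∧ centralizer (R : Set (H ⧸ center H)) = R := by
  classical
  have hrp : Fact r.Prime := ⟨hr⟩
  set π : H →* H ⧸ center H := QuotientGroup.mk' (center H) with hπ
  have hπs : Function.Surjective π := QuotientGroup.mk'_surjective _
  have hker : ∀ g : H, π g = 1 ↔ g ∈ center H := fun g => QuotientGroup.eq_one_iff g
  -- an element of the centre with `r`-th power one is trivial
  have hz : ∀ z ∈ center H, z ^ r = 1 → z = 1 := by
    intro z hzc hzr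
    by_contra hne
    apply hrZ
    have h1 : orderOf z = r := orderOf_eq_prime hzr hne
    have h2 : orderOf (⟨z, hzc⟩ : center H) ∣ Nat.card (center H) := _root_.orderOf_dvd_natCard _
    rwa [Subgroup.orderOf_mk, h1] at h2
  have hx1 : orderOf (π x) = r := by
    apply orderOf_eq_prime
    · rw [← map_pow, ← hx, pow_orderOf_eq_one, map_one]
    · intro h
      have h1 := hz x ((hker x).1 h) (by rw [← hx, pow_orderOf_eq_one])
      rw [h1, orderOf_one] at hx
      exact hr.one_lt.ne hx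
  refine ⟨zpowers (π x), by rw [Nat.card_zpowers, hx1], ?_⟩
  have hle1 : zpowers (π x) ≤ centralizer (zpowers (π x) : Set (H ⧸ center H)) := by
    intro a ha
    rw [mem_centralizer_iff]
    intro b hb
    obtain ⟨i, rfl⟩ := ha
    obtain ⟨j, rfl⟩ := hb
    exact (Commute.refl (π x)).zpow_zpow j i
  have hcomap : (centralizer (zpowers (π x) : Set (H ⧸ center H))).comap π ≤ centralizer ({x} : Set H) := by
    intro g hg
    rw [mem_comap, mem_centralizer_iff] at hg
    have h1 := hg (π x) (mem_zpowers _)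
    have h2 : g * x * g⁻¹ * x⁻¹ ∈ center H := by
      rw [← hker, map_mul, map_mul, map_mul, map_inv, map_inv, ← h1]
      group
    have h3 : (g * x * g⁻¹ * x⁻¹) ^ r = 1 := by
      have h4 : g * x * g⁻¹ = (g * x * g⁻¹ * x⁻¹) * x := by group
      have h5 : (g * x * g⁻¹) ^ r = 1 := by
        rw [conj_pow, ← hx, pow_orderOf_eq_one]; group
      rw [h4] at h5
      have h6 : Commute (g * x * g⁻¹ * x⁻¹) x := (mem_center_iff.1 h2 x).symm
      rw [h6.mul_pow, ← hx, pow_orderOf_eq_one, mul_one] at h5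
      rwa [hx] at h5
    have h4 := hz _ h2 h3
    rw [mem_centralizer_iff]
    rintro b hb
    rw [Set.mem_singleton_iff.1 hb]
    have h5 : g * x = x * g := by
      have h6 : g * x = (g * x * g⁻¹ * x⁻¹) * (x * g) := by group
      rw [h6, h4, one_mul]
    exact h5.symm
  have hcard : Nat.card (centralizer (zpowers (π x) : Set (H ⧸ center H))) * Nat.card (center H) ≤
      Nat.card (centralizer ({x} : Set H)) := by
    have h1 : Nat.card ((centralizer (zpowers (π x) : Set (H ⧸ center H))).comap π) =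
        Nat.card (centralizer (zpowers (π x) : Set (H ⧸ center H))) * Nat.card (center H) := by
      have h2 := Subgroup.index_comap_of_surjective (centralizer (zpowers (π x) : Set (H ⧸ center H))) hπs
      have h3 := Subgroup.card_mul_index ((centralizer (zpowers (π x) : Set (H ⧸ center H))).comap π)
      have h4 := Subgroup.card_mul_index (centralizer (zpowers (π x) : Set (H ⧸ center H)))
      have h5 := Subgroup.card_eq_card_quotient_mul_card_subgroup (center H)
      rw [h2, h5, ← h4] at h3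
      have h6 : 0 < (centralizer (zpowers (π x) : Set (H ⧸ center H))).index :=
        Nat.pos_of_ne_zero Subgroup.index_ne_zero_of_finite
      apply Nat.eq_of_mul_eq_mul_right h6
      rw [h3]; ring
    rw [← h1]
    exact Subgroup.card_le_of_le hcomap
  have hpos : 0 < Nat.card (center H) := Nat.card_pos
  have h1 : Nat.card (centralizer (zpowers (π x) : Set (H ⧸ center H))) ≤ r := by
    have h2 := hcard.trans hle
    exact Nat.le_of_mul_le_mul_right h2 hpos
  refine (Subgroup.eq_of_le_of_card_ge hle1 ?_).symm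
  rw [Nat.card_zpowers, hx1]
  exact h1

end Cfsg.Agent.H809.SelfCent
end

-- part: H809/SelfCentLin
section
/-!
# Self-centralising subgroups of prime order in `PSL n F` (helper809, task 203)
-/

set_option autoImplicit false

namespace Cfsg.Agent.H809.SelfCent

open Subgroup Matrix Cfsg.Agent.LieExceptional.IrredMatrix

variable {F : Type*} [Field F] [Fintype F]

theorem card_center_SL (n : ℕ) (hn : 2 ≤ n) :
    Nat.card (center (Matrix.SpecialLinearGroup (Fin n) F)) = Nat.gcd n (Fintype.card F - 1) := by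
  classical
  have h1 := S0242.result (F := F) rfl n (by omega)
  have h2 := S0243.result (F := F) rfl n hn
  have h3 := Subgroup.card_eq_card_quotient_mul_card_subgroup (center (Matrix.SpecialLinearGroup (Fin n) F))
  rw [← h1] at h2
  have hq : 0 < Fintype.card F - 1 := Nat.sub_pos_of_lt Fintype.one_lt_card
  have h4 : Nat.gcd n (Fintype.card F - 1) * Nat.card (Matrix.ProjectiveSpecialLinearGroup (Fin n) F) =
      Nat.card (Matrix.SpecialLinearGroup (Fin n) F) := by
    apply Nat.eq_of_mul_eq_mul_left hq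
    rw [← h2]; ring
  change Nat.card (Matrix.SpecialLinearGroup (Fin n) F) =
    Nat.card (Matrix.ProjectiveSpecialLinearGroup (Fin n) F) * _ at h3
  rw [h3, mul_comm] at h4
  exact (Nat.eq_of_mul_eq_mul_left Nat.card_pos h4).symm

/-- `r` does not divide `q` -/
theorem cast_ne_zero {r q : ℕ} (hF : Fintype.card F = q) (hr : r.Prime) (hrq : ¬ r ∣ q) : (r : F) ≠ 0 := by
  intro h
  obtain ⟨p, hp⟩ := CharP.exists F
  obtain ⟨n, hpp, hn⟩ := FiniteField.card F p
  have h1 : p ∣ r := (CharP.cast_eq_zero_iff F p r).1 h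
  have h2 : p = r := (Nat.prime_dvd_prime_iff_eq hpp hr).1 h1
  apply hrq
  rw [← hF, hn, ← h2]
  exact dvd_pow_self p n.ne_zero

/-- the order of `q` modulo `r` when it is prime -/
theorem orderOf_cast {n r q : ℕ} (hn : n.Prime) (h1 : r ∣ q ^ n - 1) (h2 : ¬ r ∣ q - 1) (hq : 1 ≤ q) :
    orderOf ((q : ℕ) : ZMod r) = n := by
  have hnp : Fact n.Prime := ⟨hn⟩
  apply orderOf_eq_prime
  · have h3 : ((q ^ n - 1 : ℕ) : ZMod r) = 0 := (ZMod.natCast_eq_zero_iff _ _).2 h1
    rw [Nat.cast_sub (Nat.one_le_pow _ _ hq), Nat.cast_pow, Nat.cast_one, sub_eq_zero] at h3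
    exact h3
  · intro h3
    apply h2
    rw [← ZMod.natCast_eq_zero_iff, Nat.cast_sub hq, Nat.cast_one, h3, sub_self]

/-- the centraliser in `GL` -/
theorem card_cent_GL {n r q : ℕ} (hF : Fintype.card F = q) (hn : n.Prime) (hr : r.Prime) (h1 : r ∣ q ^ n - 1)
    (h2 : ¬ r ∣ q - 1) (h3 : ¬ r ∣ q) (x : GL (Fin n) F) (hx : orderOf x = r) :
    Nat.card (centralizer ({x} : Set (GL (Fin n) F))) = q ^ n - 1 := by
  obtain ⟨p, hp⟩ := CharP.exists F
  have hpp : Fact p.Prime := ⟨CharP.char_is_prime F p⟩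
  have hq : 1 ≤ q := by rw [← hF]; exact Fintype.card_pos
  refine (S2638.result (p := p) hF hn.one_lt.le hr ?_ (orderOf_cast hn h1 h2 hq) x hx).2
  rintro rfl
  exact cast_ne_zero hF hr h3 (CharP.cast_eq_zero F r)

theorem irr {n r q : ℕ} (hF : Fintype.card F = q) (hn : n.Prime) (hr : r.Prime) (h1 : r ∣ q ^ n - 1)
    (h2 : ¬ r ∣ q - 1) (h3 : ¬ r ∣ q) (x : GL (Fin n) F) (hx : orderOf x = r) :
    Irreducible (minpoly F (x : Matrix (Fin n) (Fin n) F)) ∧
      (minpoly F (x : Matrix (Fin n) (Fin n) F)).natDegree = n := by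
  have hq : 1 ≤ q := by rw [← hF]; exact Fintype.card_pos
  refine S2638.irr hr (cast_ne_zero hF hr h3) (by rw [hF]; exact orderOf_cast hn h1 h2 hq) ?_ ?_
  · rw [← Units.val_pow_eq_pow_val, ← hx, pow_orderOf_eq_one, Units.val_one]
  · intro h
    have h4 : x = 1 := Units.ext h
    rw [h4, orderOf_one] at hx
    exact hr.one_lt.ne hx

section Irred

/-- centralisers of irreducible elements in `SL` -/
theorem card_cent_SL {n r q : ℕ} (hF : Fintype.card F = q) (hn : n.Prime) (hr : r.Prime) (h1 : r ∣ q ^ n - 1)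
    (h2 : ¬ r ∣ q - 1) (h3 : ¬ r ∣ q) (hcop : Nat.Coprime n (q - 1)) (x : Matrix.SpecialLinearGroup (Fin n) F)
    (hx : orderOf x = r) :
    Nat.card (centralizer ({x} : Set (Matrix.SpecialLinearGroup (Fin n) F))) * (q - 1) ≤ q ^ n - 1 := by
  classical
  have hinj : Function.Injective (Matrix.SpecialLinearGroup.toGL : Matrix.SpecialLinearGroup (Fin n) F →* _) := by
    intro a b h
    apply Subtype.ext
    exact congrArg (Units.val) h
  have hx' : orderOf (Matrix.SpecialLinearGroup.toGL x : GL (Fin n) F) = r := by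
    rw [orderOf_injective _ hinj, hx]
  rw [← card_cent_GL hF hn hr h1 h2 h3 (Matrix.SpecialLinearGroup.toGL x) hx']
  have hU : Nat.card Fˣ = q - 1 := by
    rw [Nat.card_eq_fintype_card, Fintype.card_units, hF]
  rw [← hU, ← Nat.card_prod]
  let f : centralizer ({x} : Set (Matrix.SpecialLinearGroup (Fin n) F)) × Fˣ →
      centralizer ({(Matrix.SpecialLinearGroup.toGL x : GL (Fin n) F)} : Set (GL (Fin n) F)) := fun a =>
    ⟨(Matrix.SpecialLinearGroup.toGL a.1.1) * (Units.map (Matrix.scalar (Fin n)).toMonoidHom a.2 : GL (Fin n) F), by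
      rw [mem_centralizer_iff]
      intro b hb
      rw [Set.mem_singleton_iff.1 hb]
      have h4 : x * a.1.1 = a.1.1 * x := (mem_centralizer_iff.1 a.1.2) x rfl
      apply Units.ext
      have h5 : (x : Matrix (Fin n) (Fin n) F) * (a.1.1 : Matrix (Fin n) (Fin n) F) =
          (a.1.1 : Matrix (Fin n) (Fin n) F) * (x : Matrix (Fin n) (Fin n) F) := congrArg Subtype.val h4
      show (x : Matrix (Fin n) (Fin n) F) * ((a.1.1 : Matrix (Fin n) (Fin n) F) * (Matrix.scalar (Fin n) (a.2 : F))) =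
        (a.1.1 : Matrix (Fin n) (Fin n) F) * (Matrix.scalar (Fin n) (a.2 : F)) * (x : Matrix (Fin n) (Fin n) F)
      rw [← mul_assoc, h5, mul_assoc, mul_assoc, (Matrix.scalar_commute (a.2 : F) (fun _ => Commute.all _ _)
        (x : Matrix (Fin n) (Fin n) F)).eq]⟩
  apply Nat.card_le_card_of_injective f
  rintro ⟨⟨a, ha⟩, c⟩ ⟨⟨b, hb⟩, d⟩ h
  have h4 : (a : Matrix (Fin n) (Fin n) F) * Matrix.scalar (Fin n) (c : F) =
      (b : Matrix (Fin n) (Fin n) F) * Matrix.scalar (Fin n) (d : F) := congrArg (fun z => (z.1 : GL (Fin n) F).1) h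
  have h5 : (c : F) ^ n = (d : F) ^ n := by
    have h6 := congrArg Matrix.det h4
    rw [Matrix.det_mul, Matrix.det_mul, a.2, b.2, one_mul, one_mul] at h6
    simpa only [_root_.Matrix.scalar_apply, _root_.Matrix.det_diagonal, _root_.Finset.prod_const, _root_.Finset.card_univ, _root_.Fintype.card_fin] using h6
  have hcd : c = d := by
    have h7 : (c / d) ^ n = 1 := by
      apply Units.ext
      rw [Units.val_pow_eq_pow_val, Units.val_div_eq_div_val, div_pow, h5, Units.val_one,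
        div_self (pow_ne_zero _ d.ne_zero)]
    have h8 : (c / d) ^ (q - 1) = 1 := by
      rw [← hU]; exact pow_card_eq_one'
    have h9 : orderOf (c / d) ∣ 1 := by
      rw [← Nat.Coprime.gcd_eq_one hcop]
      exact Nat.dvd_gcd (orderOf_dvd_of_pow_eq_one h7) (orderOf_dvd_of_pow_eq_one h8)
    have h10 : c / d = 1 := orderOf_eq_one_iff.1 (Nat.dvd_one.1 h9)
    exact div_eq_one.1 h10
  subst hcd
  have h6 : (a : Matrix (Fin n) (Fin n) F) = b := by
    have h7 : Matrix.scalar (Fin n) (c : F) * Matrix.scalar (Fin n) ((c⁻¹ : Fˣ) : F) = 1 := by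
      rw [← map_mul, ← Units.val_mul, mul_inv_cancel, Units.val_one, map_one]
    calc (a : Matrix (Fin n) (Fin n) F) = a * (Matrix.scalar (Fin n) (c : F) * Matrix.scalar (Fin n) ((c⁻¹ : Fˣ) : F)) := by
          rw [h7, mul_one]
      _ = b := by rw [← mul_assoc, h4, mul_assoc, h7, mul_one]
  have h7 : a = b := Subtype.ext h6
  subst h7
  rfl

end Irred

/-- `|SL|` is divisible by `r` -/
theorem dvd_card_SL {n r q : ℕ} (hF : Fintype.card F = q) (hn : 1 ≤ n) (hr : r.Prime) (h1 : r ∣ q ^ n - 1)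
    (h2 : ¬ r ∣ q - 1) : r ∣ Nat.card (Matrix.SpecialLinearGroup (Fin n) F) := by
  have h3 := S0242.result (F := F) hF n hn
  have h4 : r ∣ (q - 1) * Nat.card (Matrix.SpecialLinearGroup (Fin n) F) := by
    rw [h3]
    refine Dvd.dvd.trans ?_ (Finset.dvd_prod_of_mem _ (Finset.mem_univ (⟨0, hn⟩ : Fin n)))
    simpa only [_root_.pow_zero] using h1
  exact ((Nat.Prime.dvd_mul hr).1 h4).resolve_left h2

theorem psl_irred {n r q : ℕ} (hF : Fintype.card F = q) (hn : n.Prime) (hr : r.Prime) (h1 : r ∣ q ^ n - 1)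
    (h2 : ¬ r ∣ q - 1) (h3 : ¬ r ∣ q) (hcop : Nat.Coprime n (q - 1)) (hc : q ^ n - 1 ≤ r * (q - 1)) :
    ∃ R : Subgroup (Matrix.ProjectiveSpecialLinearGroup (Fin n) F), Nat.card R = r ∧
      centralizer (R : Set (Matrix.ProjectiveSpecialLinearGroup (Fin n) F)) = R := by
  have hrp : Fact r.Prime := ⟨hr⟩
  have hq : 0 < q - 1 := by rw [← hF]; exact Nat.sub_pos_of_lt Fintype.one_lt_card
  obtain ⟨x, hx⟩ := exists_prime_orderOf_dvd_card' r (dvd_card_SL hF hn.one_lt.le hr h1 h2)
  have hZ : Nat.card (center (Matrix.SpecialLinearGroup (Fin n) F)) = 1 := by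
    rw [card_center_SL n hn.two_le, hF]; exact hcop
  refine quot_cent hr (by rw [hZ]; exact hr.one_lt.ne' ∘ Nat.dvd_one.1) x hx ?_
  rw [hZ, mul_one]
  exact Nat.le_of_mul_le_mul_right ((card_cent_SL hF hn hr h1 h2 h3 hcop x hx).trans hc) hq

section Block

variable {d : ℕ}

omit [Fintype F] in
/-- the matrix `diag(M, 1)` -/
theorem commute_block {M : Matrix (Fin d) (Fin d) F} (hM : Irreducible (minpoly F M)) (hM1 : M ≠ 1)
    {Y : Matrix (Fin d ⊕ Fin 1) (Fin d ⊕ Fin 1) F} (h : Commute (Matrix.fromBlocks M 0 0 1) Y) :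
    Y = Matrix.fromBlocks Y.toBlocks₁₁ 0 0 Y.toBlocks₂₂ ∧ Commute M Y.toBlocks₁₁ := by
  obtain ⟨g, hg⟩ := exists_inv_aeval hM (Polynomial.X - 1) (by
    rw [map_sub, Polynomial.aeval_X, map_one, Ne, sub_eq_zero]; exact hM1)
  rw [map_sub, Polynomial.aeval_X, map_one] at hg
  have h1 := h.eq
  rw [← Matrix.fromBlocks_toBlocks Y, Matrix.fromBlocks_multiply, Matrix.fromBlocks_multiply,
    Matrix.fromBlocks_inj] at h1
  simp only [Matrix.zero_mul, add_zero, Matrix.mul_zero, Matrix.one_mul, zero_add, Matrix.mul_one] at h1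
  obtain ⟨h11, h12, h21, -⟩ := h1
  have h3 : Y.toBlocks₁₂ = 0 := by
    have h4 : (M - 1) * Y.toBlocks₁₂ = 0 := by rw [Matrix.sub_mul, h12, Matrix.one_mul, sub_self]
    calc Y.toBlocks₁₂ = (Polynomial.aeval M g * (M - 1)) * Y.toBlocks₁₂ := by rw [hg, Matrix.one_mul]
      _ = 0 := by rw [Matrix.mul_assoc, h4, Matrix.mul_zero]
  have h3' : Y.toBlocks₂₁ = 0 := by
    have h4 : Y.toBlocks₂₁ * (M - 1) = 0 := by rw [Matrix.mul_sub, ← h21, Matrix.mul_one, sub_self]
    have h5 : (M - 1) * Polynomial.aeval M g = 1 := mul_eq_one_comm.1 hg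
    calc Y.toBlocks₂₁ = Y.toBlocks₂₁ * ((M - 1) * Polynomial.aeval M g) := by rw [h5, Matrix.mul_one]
      _ = 0 := by rw [← Matrix.mul_assoc, h4, Matrix.zero_mul]
  refine ⟨?_, h11⟩
  conv_lhs => rw [← Matrix.fromBlocks_toBlocks Y, h3, h3']

/-- `A ↦ diag(A, 1)` -/
noncomputable def blkM (d : ℕ) (F : Type*) [Field F] : Matrix (Fin d) (Fin d) F →* Matrix (Fin (d + 1)) (Fin (d + 1)) F where
  toFun A := Matrix.reindexAlgEquiv F F finSumFinEquiv (Matrix.fromBlocks A 0 0 1)
  map_one' := by rw [Matrix.fromBlocks_one, map_one]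
  map_mul' A B := by
    rw [← map_mul, Matrix.fromBlocks_multiply]
    simp

omit [Fintype F] in
theorem blkM_apply (A : Matrix (Fin d) (Fin d) F) :
    blkM d F A = Matrix.reindexAlgEquiv F F finSumFinEquiv (Matrix.fromBlocks A 0 0 1) := rfl

omit [Fintype F] in
theorem blkM_injective : Function.Injective (blkM d F) := by
  intro A B h
  have h1 := (Matrix.reindexAlgEquiv F F (finSumFinEquiv (m := d) (n := 1))).injective h
  exact (Matrix.fromBlocks_inj.1 h1).1

omit [Fintype F] in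
theorem det_blkM (A : Matrix (Fin d) (Fin d) F) : (blkM d F A).det = A.det := by
  rw [blkM_apply, Matrix.det_reindexAlgEquiv, Matrix.det_fromBlocks_zero₁₂, Matrix.det_one, mul_one]

/-- `A ↦ diag(A, 1)` on `SL` -/
noncomputable def blk (d : ℕ) (F : Type*) [Field F] :
    Matrix.SpecialLinearGroup (Fin d) F →* Matrix.SpecialLinearGroup (Fin (d + 1)) F where
  toFun A := ⟨blkM d F A, by rw [det_blkM, A.2]⟩
  map_one' := Subtype.ext (by
    show blkM d F ((1 : Matrix.SpecialLinearGroup (Fin d) F) : Matrix (Fin d) (Fin d) F) = 1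
    rw [Matrix.SpecialLinearGroup.coe_one, map_one])
  map_mul' A B := Subtype.ext (by
    show blkM d F ((A * B : Matrix.SpecialLinearGroup (Fin d) F) : Matrix (Fin d) (Fin d) F) = _
    rw [Matrix.SpecialLinearGroup.coe_mul, map_mul]
    rfl)

omit [Fintype F] in
theorem blk_injective : Function.Injective (blk d F) := by
  intro A B h
  apply Subtype.ext
  exact blkM_injective (congrArg Subtype.val h)

omit [Fintype F] in
/-- elements commuting with `diag(x, 1)` -/
theorem cent_blk {x : Matrix.SpecialLinearGroup (Fin d) F}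
    (hM : Irreducible (minpoly F (x : Matrix (Fin d) (Fin d) F))) (hM1 : x ≠ 1)
    {y : Matrix.SpecialLinearGroup (Fin (d + 1)) F} (h : Commute (blk d F x) y) :
    ∃ (A : GL (Fin d) F) (e : F), A ∈ centralizer ({Matrix.SpecialLinearGroup.toGL x} : Set (GL (Fin d) F)) ∧
      (y : Matrix (Fin (d + 1)) (Fin (d + 1)) F) =
        Matrix.reindexAlgEquiv F F finSumFinEquiv (Matrix.fromBlocks (A : Matrix (Fin d) (Fin d) F) 0 0
          (Matrix.scalar (Fin 1) e)) ∧ (A : Matrix (Fin d) (Fin d) F).det * e = 1 := by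
  classical
  set E := Matrix.reindexAlgEquiv F F (finSumFinEquiv (m := d) (n := 1)) with hE
  set Y := E.symm (y : Matrix (Fin (d + 1)) (Fin (d + 1)) F) with hY
  have hyY : (y : Matrix (Fin (d + 1)) (Fin (d + 1)) F) = E Y := by rw [hY, AlgEquiv.apply_symm_apply]
  have hc : Commute (Matrix.fromBlocks (x : Matrix (Fin d) (Fin d) F) 0 0 1) Y := by
    have h1 : (blkM d F x) * (y : Matrix (Fin (d + 1)) (Fin (d + 1)) F) =
      (y : Matrix (Fin (d + 1)) (Fin (d + 1)) F) * blkM d F x := congrArg Subtype.val h.eq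
    apply E.injective
    rw [map_mul, map_mul, ← hyY]
    exact h1
  have hx1 : (x : Matrix (Fin d) (Fin d) F) ≠ 1 := fun h1 => hM1 (Subtype.ext h1)
  obtain ⟨h1, h2⟩ := commute_block hM hx1 hc
  have hsc : Y.toBlocks₂₂ = Matrix.scalar (Fin 1) (Y.toBlocks₂₂ 0 0) := by
    ext i j
    rw [Subsingleton.elim i 0, Subsingleton.elim j 0]
    simp
  have hdet : Y.toBlocks₁₁.det * Y.toBlocks₂₂ 0 0 = 1 := by
    have h3 : (y : Matrix (Fin (d + 1)) (Fin (d + 1)) F).det = 1 := y.2
    rw [hyY, hE, Matrix.det_reindexAlgEquiv, h1, Matrix.det_fromBlocks_zero₁₂, hsc] at h3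
    simpa only [_root_.Fin.isValue, _root_.Matrix.scalar_apply, _root_.Matrix.det_unique, _root_.Fin.default_eq_zero, _root_.Matrix.diagonal_apply_eq] using h3
  have hu : IsUnit Y.toBlocks₁₁.det := IsUnit.of_mul_eq_one _ hdet
  refine ⟨Matrix.GeneralLinearGroup.mk'' Y.toBlocks₁₁ hu, Y.toBlocks₂₂ 0 0, ?_, ?_, hdet⟩
  · rw [mem_centralizer_iff]
    rintro b hb
    rw [Set.mem_singleton_iff.1 hb]
    exact Units.ext h2.eq
  · rw [hyY]
    congr 1
    conv_lhs => rw [h1, hsc]
    rfl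

/-- centralisers of `diag(x, 1)`, `x` irreducible -/
theorem card_cent_blk {r q : ℕ} (hF : Fintype.card F = q) (hn : d.Prime) (hr : r.Prime) (h1 : r ∣ q ^ d - 1)
    (h2 : ¬ r ∣ q - 1) (h3 : ¬ r ∣ q) (x : Matrix.SpecialLinearGroup (Fin d) F) (hx : orderOf x = r) :
    Nat.card (centralizer ({blk d F x} : Set (Matrix.SpecialLinearGroup (Fin (d + 1)) F))) ≤ q ^ d - 1 := by
  classical
  have hinj : Function.Injective (Matrix.SpecialLinearGroup.toGL : Matrix.SpecialLinearGroup (Fin d) F →* _) := by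
    intro a b h
    apply Subtype.ext
    exact congrArg (Units.val) h
  have hx' : orderOf (Matrix.SpecialLinearGroup.toGL x : GL (Fin d) F) = r := by
    rw [orderOf_injective _ hinj, hx]
  rw [← card_cent_GL hF hn hr h1 h2 h3 (Matrix.SpecialLinearGroup.toGL x) hx']
  have hirr := (irr hF hn hr h1 h2 h3 _ hx').1
  have hx1 : x ≠ 1 := by
    rintro rfl
    rw [orderOf_one] at hx
    exact hr.one_lt.ne hx
  have key : ∀ y : centralizer ({blk d F x} : Set (Matrix.SpecialLinearGroup (Fin (d + 1)) F)),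
      ∃ (A : GL (Fin d) F) (e : F), A ∈ centralizer ({Matrix.SpecialLinearGroup.toGL x} : Set (GL (Fin d) F)) ∧
      (y : Matrix (Fin (d + 1)) (Fin (d + 1)) F) =
        Matrix.reindexAlgEquiv F F finSumFinEquiv (Matrix.fromBlocks (A : Matrix (Fin d) (Fin d) F) 0 0
          (Matrix.scalar (Fin 1) e)) ∧ (A : Matrix (Fin d) (Fin d) F).det * e = 1 := by
    intro y
    exact cent_blk hirr hx1 (mem_centralizer_iff.1 y.2 _ rfl)
  choose A e hA hy hd using key
  apply Nat.card_le_card_of_injective (fun y => (⟨A y, hA y⟩ :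
    centralizer ({Matrix.SpecialLinearGroup.toGL x} : Set (GL (Fin d) F))))
  intro y z hyz
  have h4 : A y = A z := congrArg Subtype.val hyz
  have h5 : e y = e z := by
    have h6 := hd y
    rw [h4, ← hd z] at h6
    refine mul_left_cancel₀ ?_ h6
    intro h7
    have h8 := hd z
    rw [h7, zero_mul] at h8
    exact zero_ne_one h8
  apply Subtype.ext
  apply Subtype.ext
  rw [hy y, hy z, h4, h5]

theorem psl_block {r q : ℕ} (hF : Fintype.card F = q) (hn : d.Prime) (hr : r.Prime) (h1 : r ∣ q ^ d - 1)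
    (h2 : ¬ r ∣ q - 1) (h3 : ¬ r ∣ q) (h4 : ¬ r ∣ Nat.gcd (d + 1) (q - 1))
    (hc : q ^ d - 1 ≤ r * Nat.gcd (d + 1) (q - 1)) :
    ∃ R : Subgroup (Matrix.ProjectiveSpecialLinearGroup (Fin (d + 1)) F), Nat.card R = r ∧
      centralizer (R : Set (Matrix.ProjectiveSpecialLinearGroup (Fin (d + 1)) F)) = R := by
  have hrp : Fact r.Prime := ⟨hr⟩
  obtain ⟨x, hx⟩ := exists_prime_orderOf_dvd_card' r (dvd_card_SL hF hn.one_lt.le hr h1 h2)
  have hZ : Nat.card (center (Matrix.SpecialLinearGroup (Fin (d + 1)) F)) = Nat.gcd (d + 1) (q - 1) := by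
    rw [card_center_SL (d + 1) (by have := hn.two_le; omega), hF]
  refine quot_cent hr (by rwa [hZ]) (blk d F x) (by rw [orderOf_injective _ blk_injective, hx]) ?_
  rw [hZ]
  exact (card_cent_blk hF hn hr h1 h2 h3 x hx).trans hc

end Block

/-- Task 203. -/
theorem psl_selfcent (n q r : ℕ) (h : (n, q, r) ∈ [(3,3,13),(3,4,5),(3,5,31),(4,3,13),(4,5,31),(5,2,31),(6,2,31)])
    (F : Type) [Field F] [Fintype F] (hF : Fintype.card F = q) :
    ∃ R : Subgroup (Matrix.ProjectiveSpecialLinearGroup (Fin n) F), Nat.card R = r ∧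
      Subgroup.centralizer (R : Set (Matrix.ProjectiveSpecialLinearGroup (Fin n) F)) = R := by
  simp only [List.mem_cons, Prod.mk.injEq, List.not_mem_nil, or_false] at h
  rcases h with ⟨rfl, rfl, rfl⟩ | ⟨rfl, rfl, rfl⟩ | ⟨rfl, rfl, rfl⟩ | ⟨rfl, rfl, rfl⟩ | ⟨rfl, rfl, rfl⟩ |
    ⟨rfl, rfl, rfl⟩ | ⟨rfl, rfl, rfl⟩
  · exact psl_irred hF (by norm_num) (by norm_num) (by norm_num) (by norm_num) (by norm_num) (by norm_num) (by norm_num)
  · exact psl_block (d := 2) hF (by norm_num) (by norm_num) (by norm_num) (by norm_num) (by norm_num) (by norm_num) (by norm_num)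
  · exact psl_irred hF (by norm_num) (by norm_num) (by norm_num) (by norm_num) (by norm_num) (by norm_num) (by norm_num)
  · exact psl_block (d := 3) hF (by norm_num) (by norm_num) (by norm_num) (by norm_num) (by norm_num) (by norm_num) (by norm_num)
  · exact psl_block (d := 3) hF (by norm_num) (by norm_num) (by norm_num) (by norm_num) (by norm_num) (by norm_num) (by norm_num)
  · exact psl_irred hF (by norm_num) (by norm_num) (by norm_num) (by norm_num) (by norm_num) (by norm_num) (by norm_num)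
  · exact psl_block (d := 5) hF (by norm_num) (by norm_num) (by norm_num) (by norm_num) (by norm_num) (by norm_num) (by norm_num)

end Cfsg.Agent.H809.SelfCent
end
end

-- part: H809/SelfCentUni
section
set_option linter.all false
open scoped Cfsg.Agent.FastGrp

/-!
# Self-centralising subgroups of prime order in `PSU n F q` (helper809, task 204)
-/

set_option autoImplicit false

namespace Cfsg.Agent.H809.SelfCent

open Subgroup Matrix Cfsg.Agent.LieExceptional.IrredMatrix

/-! ### the determinant of a polynomial in an irreducible matrix is a norm -/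

section Norm

open Polynomial

variable {F : Type*} [Field F] {n : ℕ}

theorem det_aeval_eq_norm {M : Matrix (Fin n) (Fin n) F} (hn : 0 < n) (hM : Irreducible (minpoly F M))
    (hd : n ≤ (minpoly F M).natDegree) (f : F[X]) :
    (aeval M f).det = Algebra.norm F (AdjoinRoot.mk (minpoly F M) f) := by
  classical
  have hfac : Fact (Irreducible (minpoly F M)) := ⟨hM⟩
  have : Nonempty (Fin n) := ⟨⟨0, hn⟩⟩
  set K := AdjoinRoot (minpoly F M) with hK
  let v : Fin n → F := Pi.single ⟨0, hn⟩ 1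
  have hv : v ≠ 0 := by
    intro h
    have := congrFun h ⟨0, hn⟩
    simp [v] at this
  let L : (F[X] ⧸ Ideal.span {minpoly F M}) →ₐ[F] Matrix (Fin n) (Fin n) F :=
    Ideal.Quotient.liftₐ _ (aeval M) (by
      intro a ha
      obtain ⟨b, rfl⟩ := Ideal.mem_span_singleton'.1 ha
      rw [map_mul, minpoly.aeval, mul_zero])
  have hL : ∀ g : F[X], L (AdjoinRoot.mk _ g) = aeval M g := by
    intro g
    rfl
  let e₀ : K →ₗ[F] (Fin n → F) :=
    { toFun := fun a => L a *ᵥ v
      map_add' := by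
        intro a b
        obtain ⟨g, rfl⟩ := AdjoinRoot.mk_surjective a
        obtain ⟨h, rfl⟩ := AdjoinRoot.mk_surjective b
        rw [← map_add (AdjoinRoot.mk (minpoly F M)), hL, hL, hL, map_add, Matrix.add_mulVec]
      map_smul' := by
        intro c a
        obtain ⟨g, rfl⟩ := AdjoinRoot.mk_surjective a
        rw [AdjoinRoot.smul_mk, hL, hL, map_smul, Matrix.smul_mulVec, RingHom.id_apply] }
  have he : ∀ g : F[X], e₀ (AdjoinRoot.mk _ g) = (aeval M g) *ᵥ v := fun g => by
    show L (AdjoinRoot.mk _ g) *ᵥ v = _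
    rw [hL]
  have hinj : Function.Injective e₀ := by
    rw [injective_iff_map_eq_zero]
    intro a ha
    obtain ⟨g, rfl⟩ := AdjoinRoot.mk_surjective a
    rw [he] at ha
    by_contra hne
    refine mulVec_aeval_ne_zero hM g ?_ hv ha
    intro h0
    apply hne
    rw [AdjoinRoot.mk_eq_zero]
    exact (minpoly.dvd_iff).2 h0
  have hsurj : Function.Surjective e₀ := by
    intro w
    obtain ⟨g, hg⟩ := exists_aeval_mulVec_eq hM hd hv w
    exact ⟨AdjoinRoot.mk _ g, by rw [he, hg]⟩
  let e : K ≃ₗ[F] (Fin n → F) := LinearEquiv.ofBijective e₀ ⟨hinj, hsurj⟩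
  have h1 : Matrix.toLin' (aeval M f) =
      (e : K →ₗ[F] (Fin n → F)) ∘ₗ ((Algebra.lmul F K (AdjoinRoot.mk _ f)) ∘ₗ (e.symm : (Fin n → F) →ₗ[F] K)) := by
    apply LinearMap.ext
    intro w
    obtain ⟨a, rfl⟩ := e.surjective w
    obtain ⟨g, rfl⟩ := AdjoinRoot.mk_surjective a
    simp only [LinearMap.comp_apply, LinearEquiv.coe_coe, LinearEquiv.symm_apply_apply]
    show Matrix.toLin' (aeval M f) (e₀ (AdjoinRoot.mk _ g)) = e₀ (AdjoinRoot.mk _ f * AdjoinRoot.mk _ g)
    rw [← map_mul (AdjoinRoot.mk (minpoly F M)), he, he, Matrix.toLin'_apply, Matrix.mulVec_mulVec, map_mul]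
  rw [Algebra.norm_apply, ← LinearMap.det_toLin', h1, LinearMap.det_conj]

theorem exists_det_eq [Finite F] {M : Matrix (Fin n) (Fin n) F} (hn : 0 < n) (hM : Irreducible (minpoly F M))
    (hd : n ≤ (minpoly F M).natDegree) (c : F) : ∃ f : F[X], (aeval M f).det = c := by
  have hfac : Fact (Irreducible (minpoly F M)) := ⟨hM⟩
  have hfin : Module.Finite F (AdjoinRoot (minpoly F M)) := (AdjoinRoot.powerBasis hM.ne_zero).finite
  have hfin' : Finite (AdjoinRoot (minpoly F M)) := Module.finite_of_finite F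
  obtain ⟨a, ha⟩ := FiniteField.norm_surjective F (AdjoinRoot (minpoly F M)) c
  obtain ⟨f, rfl⟩ := AdjoinRoot.mk_surjective a
  exact ⟨f, by rw [det_aeval_eq_norm hn hM hd, ha]⟩

end Norm

/-! ### unitary matrices -/

section Uni

open Polynomial

variable {F : Type*} [Field F] {n q : ℕ}

/-- `Aᵀ * A^σ = 1` -/
def IsU (σ : F →+* F) (A : Matrix (Fin n) (Fin n) F) : Prop := Aᵀ * A.map σ = 1

theorem herm_of_isU {σ : F →+* F} (hσ : ∀ x, σ x = x ^ q) {A : Matrix (Fin n) (Fin n) F} (h : IsU σ A)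
    (u v : Fin n → F) : Cfsg.hermForm n F q (A *ᵥ u) (A *ᵥ v) = Cfsg.hermForm n F q u v := by
  have hd : ∀ u v : Fin n → F, Cfsg.hermForm n F q u v = u ⬝ᵥ (fun i => σ (v i)) := by
    intro u v
    simp [Cfsg.hermForm, dotProduct, hσ]
  rw [hd, hd]
  have h1 : (fun i => σ ((A *ᵥ v) i)) = A.map σ *ᵥ (fun i => σ (v i)) := by
    ext i
    rw [RingHom.map_mulVec]
    rfl
  rw [h1, ← Matrix.vecMul_transpose, ← Matrix.dotProduct_mulVec, Matrix.mulVec_mulVec, h, Matrix.one_mulVec]

theorem isU_of_herm {σ : F →+* F} (hσ : ∀ x, σ x = x ^ q) (hq : q ≠ 0) {A : Matrix (Fin n) (Fin n) F}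
    (h : ∀ u v : Fin n → F, Cfsg.hermForm n F q (A *ᵥ u) (A *ᵥ v) = Cfsg.hermForm n F q u v) : IsU σ A := by
  have h1 := Cfsg.Agent.ClassicalGeometry.GUBasic.transpose_mul_map hq h
  have h2 : A.map σ = A.map (fun x => x ^ q) := by
    ext i j
    exact hσ _
  rw [IsU, h2, h1]

/-- the adjoint of a polynomial in `M` -/
theorem star_aeval (σ : F →+* F) (M : Matrix (Fin n) (Fin n) F) (f : F[X]) :
    ((aeval M f).map σ)ᵀ = aeval (M.map σ)ᵀ (f.map σ) := by
  induction f using Polynomial.induction_on' with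
  | add f g hf hg =>
    rw [map_add, Matrix.map_add _ (map_add σ), Matrix.transpose_add, hf, hg, Polynomial.map_add, map_add]
  | monomial k a =>
    have h1 : (M ^ k).map σ = (M.map σ) ^ k := map_pow σ.mapMatrix M k
    rw [Polynomial.map_monomial, aeval_monomial, aeval_monomial, ← Algebra.smul_def, ← Algebra.smul_def,
      ← Matrix.transpose_pow, ← h1]
    ext i j
    simp

/-- powers of polynomials in `M` -/
theorem pow_aeval {p m : ℕ} [hp : Fact p.Prime] [CharP F p] (M : Matrix (Fin n) (Fin n) F) (f : F[X]) :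
    (aeval M f) ^ p ^ m = aeval (M ^ p ^ m) (f.map (iterateFrobenius F p m)) := by
  rw [← map_pow, ← Polynomial.map_iterateFrobenius_expand, Polynomial.map_expand, Polynomial.expand_aeval]

theorem pow_eq_star [Fintype F] (hF : Fintype.card F = q ^ 2) (hn : Odd n) {σ : F →+* F} (hσ : ∀ x, σ x = x ^ q)
    {M : Matrix (Fin n) (Fin n) F} (hM : IsU σ M) (hM1 : M ^ (q ^ n + 1) = 1) (f : F[X]) :
    (aeval M f) ^ (q ^ n) = ((aeval M f).map σ)ᵀ := by
  classical
  obtain ⟨p, hp⟩ := CharP.exists F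
  obtain ⟨k, hpp, hk⟩ := FiniteField.card F p
  have hdvd : q ∣ p ^ (k : ℕ) := by
    rw [← hk, hF]
    exact dvd_pow_self q two_ne_zero
  obtain ⟨j, -, hj⟩ := (Nat.dvd_prime_pow hpp).1 hdvd
  have : Fact p.Prime := ⟨hpp⟩
  have hqn : q ^ n = p ^ (j * n) := by rw [hj, pow_mul]
  have h1 : (M.map σ)ᵀ = M ^ (q ^ n) := by
    have h2 : (M.map σ)ᵀ * M = 1 := by
      have h3 := congrArg Matrix.transpose hM
      rwa [Matrix.transpose_mul, Matrix.transpose_transpose, Matrix.transpose_one] at h3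
    calc (M.map σ)ᵀ = (M.map σ)ᵀ * (M * M ^ (q ^ n)) := by rw [← pow_succ', hM1, mul_one]
      _ = M ^ (q ^ n) := by rw [← mul_assoc, h2, one_mul]
  have h2 : iterateFrobenius F p (j * n) = σ := by
    ext c
    rw [iterateFrobenius_def, ← hqn, hσ]
    obtain ⟨i, hi⟩ := hn
    rw [hi, pow_succ, pow_mul, pow_mul, ← hF, FiniteField.pow_card_pow]
  rw [star_aeval, h1, hqn, pow_aeval, h2]

theorem pow_of_isU [Fintype F] (hF : Fintype.card F = q ^ 2) (hn : Odd n) {σ : F →+* F} (hσ : ∀ x, σ x = x ^ q)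
    {M Y : Matrix (Fin n) (Fin n) F} (hM : IsU σ M) (hM1 : M ^ (q ^ n + 1) = 1) (f : F[X]) (hY : IsU σ Y)
    (hf : Y = aeval M f) : Y ^ (q ^ n + 1) = 1 := by
  rw [pow_succ]
  have h1 : Y ^ (q ^ n) = (Y.map σ)ᵀ := by
    rw [hf]
    exact pow_eq_star hF hn hσ hM hM1 f
  rw [h1]
  have h3 := congrArg Matrix.transpose hY
  rwa [Matrix.transpose_mul, Matrix.transpose_transpose, Matrix.transpose_one] at h3

end Uni

theorem card_le_of_pow {G : Type*} [Group G] [Finite G] [IsCyclic G] {k : ℕ} (hk : 0 < k) (h : ∀ g : G, g ^ k = 1) :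
    Nat.card G ≤ k := by
  obtain ⟨g, hg⟩ := IsCyclic.exists_generator (α := G)
  rw [← orderOf_eq_card_of_forall_mem_zpowers hg]
  exact Nat.le_of_dvd hk (orderOf_dvd_of_pow_eq_one (h g))

section Cent

variable {F : Type*} [Field F] [Fintype F] {n q : ℕ}

/-- unitary elements of the centraliser of an irreducible unitary element `x` -/
theorem pow_eq_one {r : ℕ} (hF : Fintype.card F = q ^ 2) (hn : n.Prime) (hodd : Odd n) (hr : r.Prime)
    (h1 : r ∣ (q ^ 2) ^ n - 1) (h2 : ¬ r ∣ q ^ 2 - 1) (h3 : ¬ r ∣ q ^ 2) (h4 : r ∣ q ^ n + 1) {σ : F →+* F}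
    (hσ : ∀ x, σ x = x ^ q) {x y : GL (Fin n) F} (hx : orderOf x = r)
    (hxU : IsU σ (x : Matrix (Fin n) (Fin n) F)) (hyU : IsU σ (y : Matrix (Fin n) (Fin n) F))
    (hxy : Commute x y) : y ^ (q ^ n + 1) = 1 := by
  obtain ⟨h5, h6⟩ := irr hF hn hr h1 h2 h3 x hx
  have hc : Commute (x : Matrix (Fin n) (Fin n) F) (y : Matrix (Fin n) (Fin n) F) := congrArg Units.val hxy.eq
  obtain ⟨f, hf⟩ := exists_eq_aeval_of_commute h5 h6.ge hc
  have hM1 : (x : Matrix (Fin n) (Fin n) F) ^ (q ^ n + 1) = 1 := by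
    obtain ⟨k, hk⟩ := h4
    rw [hk, pow_mul, ← Units.val_pow_eq_pow_val, ← hx, pow_orderOf_eq_one, Units.val_one, one_pow]
  apply Units.ext
  rw [Units.val_pow_eq_pow_val, Units.val_one]
  exact pow_of_isU hF hodd hσ hxU hM1 f hyU hf

/-- `SL`-elements of the centraliser of an irreducible element -/
theorem pow_eq_one_of_det {r : ℕ} {Q : ℕ} (hF : Fintype.card F = Q) (hn : n.Prime) (hr : r.Prime)
    (h1 : r ∣ Q ^ n - 1) (h2 : ¬ r ∣ Q - 1) (h3 : ¬ r ∣ Q) {x y : GL (Fin n) F} (hx : orderOf x = r)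
    (hxy : Commute x y) (hy : (y : Matrix (Fin n) (Fin n) F).det = 1) {k : ℕ} (hk : k * (Q - 1) = Q ^ n - 1) :
    y ^ k = 1 := by
  classical
  obtain ⟨h5, h6⟩ := irr hF hn hr h1 h2 h3 x hx
  have hc := card_cent_GL hF hn hr h1 h2 h3 x hx
  set C := centralizer ({x} : Set (GL (Fin n) F)) with hC
  have hyC : y ∈ C := by
    rw [hC, mem_centralizer_iff]
    intro b hb
    rw [Set.mem_singleton_iff.1 hb]
    exact hxy.eq
  let D : C →* Fˣ := (Matrix.GeneralLinearGroup.det : GL (Fin n) F →* Fˣ).comp C.subtype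
  have hD : Function.Surjective D := by
    intro c
    obtain ⟨f, hf⟩ := exists_det_eq hn.pos h5 h6.ge (c : F)
    have hu : IsUnit (Polynomial.aeval (x : Matrix (Fin n) (Fin n) F) f).det := by rw [hf]; exact c.isUnit
    refine ⟨⟨Matrix.GeneralLinearGroup.mk'' _ hu, ?_⟩, ?_⟩
    · rw [hC, mem_centralizer_iff]
      intro b hb
      rw [Set.mem_singleton_iff.1 hb]
      apply Units.ext
      have h7 : Polynomial.aeval (x : Matrix (Fin n) (Fin n) F) (Polynomial.X * f) =
        Polynomial.aeval (x : Matrix (Fin n) (Fin n) F) (f * Polynomial.X) := by rw [mul_comm]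
      rw [map_mul, map_mul, Polynomial.aeval_X] at h7
      exact h7
    · apply Units.ext
      exact hf
  have hU : Nat.card Fˣ = Q - 1 := by
    rw [Nat.card_eq_fintype_card, Fintype.card_units, hF]
  have hker : Nat.card D.ker = k := by
    have h7 := Subgroup.card_eq_card_quotient_mul_card_subgroup D.ker
    rw [Nat.card_congr (QuotientGroup.quotientKerEquivOfSurjective D hD).toEquiv, hU, hc, ← hk, mul_comm] at h7
    have h8 : 0 < Q - 1 := by rw [← hF]; exact Nat.sub_pos_of_lt Fintype.one_lt_card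
    exact (Nat.eq_of_mul_eq_mul_left h8 h7).symm
  have hyk : (⟨y, hyC⟩ : C) ∈ D.ker := by
    rw [MonoidHom.mem_ker]
    apply Units.ext
    exact hy
  have h8 : (⟨⟨y, hyC⟩, hyk⟩ : D.ker) ^ k = 1 := by rw [← hker]; exact pow_card_eq_one'
  have h9 := congrArg (fun z : D.ker => ((z : C) : GL (Fin n) F)) h8
  simpa using h9

end Cent


section SU

variable {F : Type*} [Field F] [Fintype F] {n q : ℕ}

/-- the embedding of `SU` in `GL` -/
noncomputable def toG (n : ℕ) (F : Type*) [Field F] (q : ℕ) : Cfsg.SU n F q →* GL (Fin n) F :=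
  Matrix.SpecialLinearGroup.toGL.comp (Cfsg.SU n F q).subtype

omit [Fintype F] in
theorem toG_injective : Function.Injective (toG n F q) := by
  intro a b h
  apply Subtype.ext
  apply Subtype.ext
  exact congrArg Units.val h

omit [Fintype F] in
theorem toG_val (y : Cfsg.SU n F q) : (toG n F q y : Matrix (Fin n) (Fin n) F) =
    ((y : Matrix.SpecialLinearGroup (Fin n) F) : Matrix (Fin n) (Fin n) F) := rfl

omit [Fintype F] in
theorem isU_SU {σ : F →+* F} (hσ : ∀ x, σ x = x ^ q) (hq : q ≠ 0) (y : Cfsg.SU n F q) :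
    IsU σ ((y : Matrix.SpecialLinearGroup (Fin n) F) : Matrix (Fin n) (Fin n) F) :=
  isU_of_herm hσ hq y.2

/-- `SU`-centraliser of an irreducible element -/
theorem card_cent_SU {r : ℕ} (hF : Fintype.card F = q ^ 2) (hn : n.Prime) (hodd : Odd n) (hr : r.Prime)
    (h1 : r ∣ (q ^ 2) ^ n - 1) (h2 : ¬ r ∣ q ^ 2 - 1) (h3 : ¬ r ∣ q ^ 2) (h4 : r ∣ q ^ n + 1) {k l : ℕ}
    (hk : k * (q ^ 2 - 1) = (q ^ 2) ^ n - 1) (hl : Nat.gcd k (q ^ n + 1) = l) (hl0 : 0 < l) (x : Cfsg.SU n F q)
    (hx : orderOf x = r) : Nat.card (centralizer ({x} : Set (Cfsg.SU n F q))) ≤ l := by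
  classical
  obtain ⟨σ, hσ⟩ := ClassicalGeometry.GUBasic.exists_powHom hF
  have hq := ClassicalGeometry.GUBasic.two_le hF
  have hx' : orderOf (toG n F q x) = r := by rw [orderOf_injective _ toG_injective, hx]
  obtain ⟨h5, h6⟩ := irr hF hn hr h1 h2 h3 (toG n F q x) hx'
  have hcomm : ∀ y : centralizer ({x} : Set (Cfsg.SU n F q)), Commute (toG n F q x) (toG n F q y.1) := by
    intro y
    have h7 : x * y.1 = y.1 * x := mem_centralizer_iff.1 y.2 x rfl
    have h8 := congrArg (toG n F q) h7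
    rwa [map_mul, map_mul] at h8
  have : IsCyclic (centralizer ({x} : Set (Cfsg.SU n F q))) := by
    refine isCyclic_of_commute h5 h6.ge
      ((Units.coeHom (Matrix (Fin n) (Fin n) F)).comp ((toG n F q).comp
        (centralizer ({x} : Set (Cfsg.SU n F q))).subtype)) ?_ ?_
    · intro a b h
      exact Subtype.ext (toG_injective (Units.ext h))
    · intro c
      exact congrArg Units.val (hcomm c).eq
  refine card_le_of_pow hl0 ?_
  intro y
  have h7 : (toG n F q y.1) ^ (q ^ n + 1) = 1 :=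
    pow_eq_one hF hn hodd hr h1 h2 h3 h4 hσ hx' (isU_SU hσ (by omega) x) (isU_SU hσ (by omega) y.1) (hcomm y)
  have h8 : (toG n F q y.1) ^ k = 1 := pow_eq_one_of_det hF hn hr h1 h2 h3 hx' (hcomm y) y.1.1.2 hk
  have h9 : (toG n F q y.1) ^ l = 1 := by
    rw [← hl]
    exact pow_gcd_eq_one.2 ⟨h8, h7⟩
  apply Subtype.ext
  apply toG_injective
  rw [Subgroup.coe_pow, Subgroup.coe_one, map_pow, h9, map_one]

theorem dvd_card_SU {r : ℕ} (hF : Fintype.card F = q ^ 2) (hn : 1 ≤ n) (hr : r.Prime)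
    (h : r ∣ q ^ (n * (n - 1) / 2) * ∏ i ∈ Finset.range n, (if Even i then q ^ (i + 1) + 1 else q ^ (i + 1) - 1))
    (h2 : ¬ r ∣ q + 1) : r ∣ Nat.card (Cfsg.SU n F q) := by
  rw [← S0278.result hF n hn] at h
  exact ((Nat.Prime.dvd_mul hr).1 h).resolve_left h2

theorem psu_irred {r : ℕ} (hF : Fintype.card F = q ^ 2) (hn : n.Prime) (hodd : Odd n) (hr : r.Prime)
    (h1 : r ∣ (q ^ 2) ^ n - 1) (h2 : ¬ r ∣ q ^ 2 - 1) (h3 : ¬ r ∣ q ^ 2) (h4 : r ∣ q ^ n + 1) {k : ℕ}
    (hk : k * (q ^ 2 - 1) = (q ^ 2) ^ n - 1) (hl : Nat.gcd k (q ^ n + 1) = r * Nat.gcd n (q + 1))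
    (h : r ∣ q ^ (n * (n - 1) / 2) * ∏ i ∈ Finset.range n, (if Even i then q ^ (i + 1) + 1 else q ^ (i + 1) - 1))
    (h5 : ¬ r ∣ q + 1) (h6 : ¬ r ∣ Nat.gcd n (q + 1)) :
    ∃ R : Subgroup (Cfsg.PSU n F q), Nat.card R = r ∧
      centralizer (R : Set (Cfsg.PSU n F q)) = R := by
  have hrp : Fact r.Prime := ⟨hr⟩
  have hn3 : 3 ≤ n := by
    have := hn.two_le
    obtain ⟨i, hi⟩ := hodd
    omega
  obtain ⟨x, hx⟩ := exists_prime_orderOf_dvd_card' r (dvd_card_SU hF (by omega) hr h h5)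
  have hZ := S0279.result hF n hn3
  refine quot_cent hr (by rwa [hZ]) x hx ?_
  rw [hZ]
  refine card_cent_SU hF hn hodd hr h1 h2 h3 h4 hk hl ?_ x hx
  exact Nat.mul_pos hr.pos (Nat.gcd_pos_of_pos_left _ (by omega))

end SU

section SUBlock

variable {F : Type*} [Field F] [Fintype F] {d q : ℕ}

omit [Fintype F] in
theorem isU_blk {σ : F →+* F} {A : Matrix (Fin d) (Fin d) F} (h : IsU σ A) : IsU σ (blkM d F A) := by
  have h1 : (blkM d F A)ᵀ = blkM d F Aᵀ := by
    rw [blkM_apply, blkM_apply]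
    ext i j
    simp only [Matrix.coe_reindexAlgEquiv, Matrix.transpose_apply, Matrix.reindex_apply, Matrix.submatrix_apply]
    rw [← Matrix.transpose_apply (Matrix.fromBlocks A 0 0 1), Matrix.fromBlocks_transpose]
    simp
  have h2 : (blkM d F A).map σ = blkM d F (A.map σ) := by
    rw [blkM_apply, blkM_apply]
    ext i j
    simp only [Matrix.coe_reindexAlgEquiv, Matrix.map_apply, Matrix.reindex_apply, Matrix.submatrix_apply]
    rw [← Matrix.map_apply (f := σ), Matrix.fromBlocks_map]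
    simp
  rw [IsU, h1, h2, ← map_mul, h, map_one]

omit [Fintype F] in
theorem isU_of_reindex {σ : F →+* F} {A : Matrix (Fin d) (Fin d) F} {B : Matrix (Fin 1) (Fin 1) F}
    (h : IsU σ (Matrix.reindexAlgEquiv F F finSumFinEquiv (Matrix.fromBlocks A 0 0 B))) : IsU σ A := by
  have h1 : (Matrix.reindexAlgEquiv F F finSumFinEquiv (Matrix.fromBlocks A 0 0 B))ᵀ =
      Matrix.reindexAlgEquiv F F finSumFinEquiv (Matrix.fromBlocks A 0 0 B)ᵀ := by
    ext i j
    simp
  have h2 : (Matrix.reindexAlgEquiv F F finSumFinEquiv (Matrix.fromBlocks A 0 0 B)).map σ =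
      Matrix.reindexAlgEquiv F F finSumFinEquiv ((Matrix.fromBlocks A 0 0 B).map σ) := by
    ext i j
    simp
  rw [IsU, h1, h2, ← map_mul, ← map_one (Matrix.reindexAlgEquiv F F (finSumFinEquiv (m := d) (n := 1)))] at h
  have h3 := (Matrix.reindexAlgEquiv F F (finSumFinEquiv (m := d) (n := 1))).injective h
  rw [Matrix.fromBlocks_transpose, Matrix.fromBlocks_map, Matrix.fromBlocks_multiply, ← Matrix.fromBlocks_one,
    Matrix.fromBlocks_inj] at h3
  have h4 := h3.1
  rw [IsU]
  simpa using h4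

omit [Fintype F] in
/-- `A ↦ diag(A, 1)` on `SU` -/
theorem exists_blkSU {σ : F →+* F} (hσ : ∀ x, σ x = x ^ q) (hq : q ≠ 0) (x : Cfsg.SU d F q) :
    blk d F (x : Matrix.SpecialLinearGroup (Fin d) F) ∈ Cfsg.SU (d + 1) F q :=
  herm_of_isU hσ (isU_blk (isU_SU hσ hq x))

theorem card_cent_blkSU {r : ℕ} (hF : Fintype.card F = q ^ 2) (hn : d.Prime) (hodd : Odd d) (hr : r.Prime)
    (h1 : r ∣ (q ^ 2) ^ d - 1) (h2 : ¬ r ∣ q ^ 2 - 1) (h3 : ¬ r ∣ q ^ 2) (h4 : r ∣ q ^ d + 1)
    (x : Cfsg.SU d F q) (hx : orderOf x = r) (x' : Cfsg.SU (d + 1) F q) (hx' : x'.1 = blk d F x.1) :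
    Nat.card (centralizer ({x'} : Set (Cfsg.SU (d + 1) F q))) ≤ q ^ d + 1 := by
  classical
  obtain ⟨σ, hσ⟩ := ClassicalGeometry.GUBasic.exists_powHom hF
  have hq := ClassicalGeometry.GUBasic.two_le hF
  have hxG : orderOf (toG d F q x) = r := by rw [orderOf_injective _ toG_injective, hx]
  obtain ⟨h5, h6⟩ := irr hF hn hr h1 h2 h3 (toG d F q x) hxG
  have hx1 : x.1 ≠ 1 := by
    intro h
    have h7 : x = 1 := Subtype.ext h
    rw [h7, orderOf_one] at hx
    exact hr.one_lt.ne hx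
  set T := centralizer ({x'} : Set (Cfsg.SU (d + 1) F q)) with hT
  have key : ∀ y : T, ∃ (A : GL (Fin d) F) (e : F),
      A ∈ centralizer ({Matrix.SpecialLinearGroup.toGL x.1} : Set (GL (Fin d) F)) ∧
      (y.1.1 : Matrix (Fin (d + 1)) (Fin (d + 1)) F) =
        Matrix.reindexAlgEquiv F F finSumFinEquiv (Matrix.fromBlocks (A : Matrix (Fin d) (Fin d) F) 0 0
          (Matrix.scalar (Fin 1) e)) ∧ (A : Matrix (Fin d) (Fin d) F).det * e = 1 := by
    intro y
    refine cent_blk h5 hx1 ?_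
    show blk d F x.1 * y.1.1 = y.1.1 * blk d F x.1
    rw [← hx']
    exact congrArg Subtype.val (mem_centralizer_iff.1 y.2 x' rfl)
  choose A e hA hy hd using key
  have hAU : ∀ y, IsU σ (A y : Matrix (Fin d) (Fin d) F) := by
    intro y
    have h7 := isU_SU hσ (by omega) y.1
    rw [hy y] at h7
    exact isU_of_reindex h7
  have hAc : ∀ y, Commute (toG d F q x) (A y) := fun y => mem_centralizer_iff.1 (hA y) _ rfl
  have hpow : ∀ y, (A y) ^ (q ^ d + 1) = 1 := fun y =>
    pow_eq_one hF hn hodd hr h1 h2 h3 h4 hσ hxG (isU_SU hσ (by omega) x) (hAU y) (hAc y)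
  -- the group of these elements
  let C := centralizer ({toG d F q x} : Set (GL (Fin d) F))
  have hCc : IsCyclic C := by
    refine isCyclic_of_commute h5 h6.ge
      ((Units.coeHom (Matrix (Fin d) (Fin d) F)).comp C.subtype) ?_ ?_
    · intro a b h
      exact Subtype.ext (Units.ext h)
    · intro c
      exact congrArg Units.val (mem_centralizer_iff.1 c.2 _ rfl)
  let _ : CommGroup C := IsCyclic.commGroup
  have h7 : Nat.card T ≤ Nat.card {c : C // c ^ (q ^ d + 1) = 1} := by
    apply Nat.card_le_card_of_injective (fun y => (⟨⟨A y, hA y⟩, by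
      apply Subtype.ext
      rw [Subgroup.coe_pow, Subgroup.coe_one]
      exact hpow y⟩ : {c : C // c ^ (q ^ d + 1) = 1}))
    intro y z hyz
    have h4 : A y = A z := congrArg (fun c => (c.1 : C).1) hyz
    have h5 : e y = e z := by
      have h6 := hd y
      rw [h4, ← hd z] at h6
      refine mul_left_cancel₀ ?_ h6
      intro h7
      have h8 := hd z
      rw [h7, zero_mul] at h8
      exact zero_ne_one h8
    apply Subtype.ext
    apply Subtype.ext
    apply Subtype.ext
    rw [hy y, hy z, h4, h5]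
  refine h7.trans ?_
  have := Fintype.ofFinite C
  have h8 := IsCyclic.card_pow_eq_one_le (α := C) (n := q ^ d + 1) (by positivity)
  rw [Nat.card_eq_fintype_card, Fintype.card_subtype]
  exact h8

theorem psu_block {r : ℕ} (hF : Fintype.card F = q ^ 2) (hn : d.Prime) (hodd : Odd d) (hr : r.Prime)
    (h1 : r ∣ (q ^ 2) ^ d - 1) (h2 : ¬ r ∣ q ^ 2 - 1) (h3 : ¬ r ∣ q ^ 2) (h4 : r ∣ q ^ d + 1)
    (h : r ∣ q ^ (d * (d - 1) / 2) * ∏ i ∈ Finset.range d, (if Even i then q ^ (i + 1) + 1 else q ^ (i + 1) - 1))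
    (h5 : ¬ r ∣ q + 1) (h6 : ¬ r ∣ Nat.gcd (d + 1) (q + 1)) (h7 : q ^ d + 1 ≤ r * Nat.gcd (d + 1) (q + 1)) :
    ∃ R : Subgroup (Cfsg.PSU (d + 1) F q), Nat.card R = r ∧
      centralizer (R : Set (Cfsg.PSU (d + 1) F q)) = R := by
  have hrp : Fact r.Prime := ⟨hr⟩
  obtain ⟨σ, hσ⟩ := ClassicalGeometry.GUBasic.exists_powHom hF
  have hq := ClassicalGeometry.GUBasic.two_le hF
  obtain ⟨x, hx⟩ := exists_prime_orderOf_dvd_card' r (dvd_card_SU hF hn.one_lt.le hr h h5)
  have hZ := S0279.result hF (d + 1) (by have := hn.two_le; omega)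
  set x' : Cfsg.SU (d + 1) F q := ⟨blk d F x.1, exists_blkSU hσ (by omega) x⟩ with hx'
  have hox : orderOf x' = r := by
    rw [← hx, ← orderOf_submonoid x', ← orderOf_submonoid x]
    exact orderOf_injective _ blk_injective _
  refine quot_cent hr (by rwa [hZ]) x' hox ?_
  rw [hZ]
  exact (card_cent_blkSU hF hn hodd hr h1 h2 h3 h4 x hx x' rfl).trans h7

end SUBlock

end Cfsg.Agent.H809.SelfCent

private theorem dce_fe90f84457fd : _root_.True := by
  try have : _root_.True := by simp only [_root_.Cfsg.hermForm.eq_1]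
  try have : _root_.True := by simp only [_root_.Cfsg.Agent.H809.SelfCent.IsU.eq_1]
  exact _root_.True.intro
end
end
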