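import Cfsg.Agent.H601.OddDeg.LabRow
import Cfsg.Agent.Nodes.CardWitt
import Cfsg.Agent.Nodes.RGDTwD4
import Cfsg.Agent.Prune
set_option linter.all false
prune_inst 0x7f00000000000000000000000000000000000000000000000000000000000000000000000000000000000000000000000000000000000000000000000000000000000000000000000000000000000000003fffffffffffffffffffffffffffbeffbdffffffff
open scoped Cfsg.Agent.FastGrp

-- part: H809/LabPSU
section
/-!
# The orders of the simple root groups of `PSU₄(q)` and `PSU₅(q)`, `q` odd (task 607, for helper601)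
-/

set_option autoImplicit false
set_option linter.unusedSectionVars false

namespace Cfsg.Agent.H809.LabPSU

open Cfsg
open CoxeterSystem Cfsg.Agent.ChevalleyStructure.CoxeterGeom Cfsg.Agent.Tits.Roots
  Cfsg.Agent.Nodes.Comb Cfsg.Agent.Nodes.Reps Cfsg.Agent.Nodes.BNOf
  Cfsg.Agent.Nodes.RGDLib Cfsg.Agent.Nodes.TypeC
open Cfsg.Agent.Nodes Cfsg.Agent.Nodes.WittAll Cfsg.Agent.Nodes.WittU Cfsg.Agent.Nodes.WittInst
  Cfsg.Agent.Nodes.WittRoot Cfsg.Agent.Nodes.WittRGD
  Cfsg.Agent.TitsThree Cfsg.Agent.TitsThree.Siegel Cfsg.Agent.TitsThree.SiegelGen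
  Cfsg.Agent.TitsThree.WittFrame Cfsg.Agent.TitsThree.WBridge Cfsg.Agent.TitsThree.WittWeyl
  Cfsg.Agent.TitsThree.FrameCN Cfsg.Agent.TitsThree.LineBorel

section General

variable {F : Type*} [Field F] {V : Type*} [AddCommGroup V] [Module F V] {H : HForm F V}

/-- the last root group is an isomorphic image of the group of admissible pairs -/
theorem card_le_last {n : ℕ} (hn : 0 < n) {Fr : Frame H (Fin n)} {K : Type*} [Group K] (M : Model Fr K) [Finite K] :
    Nat.card Fr.Adm ≤ Nat.card (WittModel.X M (sr ⟨n - 1, by omega⟩)) := by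
  have hnx : nx (⟨n - 1, by omega⟩ : Fin n) = (⟨n - 1, by omega⟩, true) := by
    unfold nx; rw [dif_neg (by simp; omega)]
  have hmem : ∀ a : Fr.Adm, M.φ ⟨Fr.Z (⟨n - 1, by omega⟩, true) a, M.hZ _ _⟩ ∈
      WittModel.X M (sr ⟨n - 1, by omega⟩) := by
    intro a
    refine ⟨⟨Fr.Z (⟨n - 1, by omega⟩, true) a, M.hZ _ _⟩, ?_, rfl⟩
    change Fr.Z (⟨n - 1, by omega⟩, true) a ∈ rg Fr (sr ⟨n - 1, by omega⟩)
    rw [rg_sr, hnx, PG_self]
    exact ⟨a, rfl⟩
  refine Nat.card_le_card_of_injective (fun a : Fr.Adm =>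
    (⟨_, hmem a⟩ : WittModel.X M (sr ⟨n - 1, by omega⟩))) ?_
  intro a b e
  have h1 : M.φ ⟨Fr.Z (⟨n - 1, by omega⟩, true) a, M.hZ _ _⟩ =
      M.φ ⟨Fr.Z (⟨n - 1, by omega⟩, true) b, M.hZ _ _⟩ := congrArg Subtype.val e
  have h2 : a⁻¹ * b = 1 := by
    apply Cfsg.Agent.Omega.ML.Ex.Lie2.SemiDat.eq_one_of_Z M (x := (⟨n - 1, by omega⟩, true))
    have h3 : (⟨Fr.Z (⟨n - 1, by omega⟩, true) (a⁻¹ * b), M.hZ _ _⟩ : M.I) =
        ⟨Fr.Z (⟨n - 1, by omega⟩, true) a, M.hZ _ _⟩⁻¹ * ⟨Fr.Z (⟨n - 1, by omega⟩, true) b, M.hZ _ _⟩ := by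
      apply Subtype.ext
      change Fr.Z (⟨n - 1, by omega⟩, true) (a⁻¹ * b) =
        (Fr.Z (⟨n - 1, by omega⟩, true) a)⁻¹ * Fr.Z (⟨n - 1, by omega⟩, true) b
      rw [Fr.Z_mul, Fr.Z_inv]
    rw [h3, map_mul, map_inv, h1, inv_mul_cancel]
  exact (inv_mul_eq_one.1 h2)

end General

section Unitary

open Cfsg.Agent.LieClassical.HermBasic Cfsg.Agent.TitsThree.KSideU

variable {F : Type*} [Field F] [Fintype F] {q N : ℕ} (hF : Fintype.card F = q ^ 2)

include hF

/-- the datum with different orders, given the orders -/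
theorem lab_of {p : ℕ} [Fact p.Prime] [CharP F p] (hp2 : p ≠ 2) (hN3 : 3 ≤ N) (W : WFrame (PU hF N) 2)
    (hne : Nat.card (toFrame W).Adm ≠ Nat.card F) :
    Cfsg.Agent.H601.OddDeg.LabT p (CoxeterMatrix.B 2) (PSU N F q) := by
  obtain ⟨p0, hp0, -⟩ := exists_adm hF W
  have := Omega.ML.Ex.Typ.finite_adm (toFrame W)
  have hfin : Finite (PSU N F q) := inferInstance
  let M := KInstU.model hF hN3 W
  refine ⟨Nodes.TypeC.A 2, Nodes.TypeC.isCartan 2, _, _, _,
    Nodes.TypeC.finite_W (CoxeterMatrix.B 2).toCoxeterSystem,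
    rgdC_model M (AmbT.of_amb (amb_U hF W) p) hp0 _, WittModel.G1_eq_top _ (by omega) _, ?_⟩
  have h1 : Nat.card (WittModel.X M (sr 0)) = Nat.card F := by
    refine Nodes.CardWitt.card_X_model M (amb_U hF W) hp0 ((Fact.out : p.Prime).odd_of_ne_two hp2)
      (a := ((0 : Fin 2), true)) (b := ((1 : Fin 2), false)) (by decide) ?_
    rw [ee_sr]
    rfl
  have h2 : Nat.card (WittModel.X M (sr 1)) = Nat.card (toFrame W).Adm :=
    le_antisymm (Omega.ML.Ex.Typ.card_last (by omega : 0 < 2) M) (card_le_last (by omega : 0 < 2) M)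
  rw [h1, h2]
  exact hne.symm

end Unitary

section Main

open Cfsg.Agent.LieClassical.HermBasic Cfsg.Agent.TitsThree.KSideU

theorem lab_psu4 {F : Type} [Field F] [Fintype F] {q : ℕ} (hF : Fintype.card F = q ^ 2) {p : ℕ} [Fact p.Prime]
    [CharP F p] (hp2 : p ≠ 2) : Cfsg.Agent.H601.OddDeg.LabT p (CoxeterMatrix.B 2) (Cfsg.PSU 4 F q) := by
  obtain ⟨W, hW⟩ := exists_wframe_even (N := 4) hF (m := 2) rfl
  refine lab_of hF hp2 (by omega) W ?_
  have h1 : Nat.card (toFrame W).V0 ≤ 1 := by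
    change Nat.card W.V0 ≤ 1
    rw [hW]
    exact le_of_eq Nat.card_unique
  have h2 := (Omega.ML.Ex.Typ.card_adm_le (toFrame W) h1 (Omega.ML.Ex.Typ.card_ok_le hF W)).trans (by rw [one_mul])
  have h3 := Omega.ML.Ex.Typ.two_le_q hF
  rw [Nat.card_eq_fintype_card (α := F), hF]
  nlinarith

theorem lab_psu5 {F : Type} [Field F] [Fintype F] {q : ℕ} (hF : Fintype.card F = q ^ 2) {p : ℕ} [Fact p.Prime]
    [CharP F p] (hp2 : p ≠ 2) : Cfsg.Agent.H601.OddDeg.LabT p (CoxeterMatrix.B 2) (Cfsg.PSU 5 F q) := by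
  classical
  obtain ⟨W, d, hdd, hW⟩ := exists_wframe_odd (N := 5) hF (m := 2) rfl
  refine lab_of hF hp2 (by omega) W ?_
  have := Omega.ML.Ex.Typ.finite_adm (toFrame W)
  obtain ⟨c0, hc0, hne⟩ := exists_ok_ne (N := 5) hF
  have hd0 : d ≠ 0 := by
    rintro rfl
    rw [herm_zero_left] at hdd
    exact zero_ne_one hdd
  choose f hf using (PU hF 5).ex
  have hmemW : ∀ a : F, a • d ∈ W.V0 := fun a => by
    rw [hW]
    exact Submodule.smul_mem _ _ (Submodule.mem_span_singleton_self d)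
  have hadd : ∀ w c, (PU hF 5).ok w c → (PU hF 5).ok w (c + c0) := by
    intro w c h
    rw [ok_iff] at h hc0 ⊢
    rw [herm_zero_left, neg_zero] at hc0
    rw [add_pow_q hF]
    linear_combination h + hc0
  let g : F × Bool → (toFrame W).Adm := fun x =>
    if x.2 then ⟨x.1 • d, f (x.1 • d) + c0, hmemW _, hadd _ _ (hf _)⟩ else ⟨x.1 • d, f (x.1 • d), hmemW _, hf _⟩
  have hg : Function.Injective g := by
    rintro ⟨a, x⟩ ⟨b, y⟩ e
    have hw : ∀ z, (g z).w = z.1 • d := by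
      rintro ⟨z, b⟩
      cases b <;> rfl
    have h1 : a • d = b • d := by
      have h2 := congrArg Frame.Adm.w e
      rw [hw, hw] at h2
      exact h2
    obtain rfl : a = b := by
      by_contra h
      have h3 : (a - b) • d = 0 := by rw [sub_smul, h1, sub_self]
      exact hd0 ((smul_eq_zero.1 h3).resolve_left (sub_ne_zero.2 h))
    have hc := congrArg Frame.Adm.c e
    cases x <;> cases y
    · rfl
    · exfalso
      change f (a • d) = f (a • d) + c0 at hc
      exact hne (left_eq_add.1 hc)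
    · exfalso
      change f (a • d) + c0 = f (a • d) at hc
      exact hne (add_eq_left.1 hc)
    · rfl
  have h1 := Nat.card_le_card_of_injective g hg
  rw [Nat.card_prod] at h1
  have h2 : Nat.card Bool = 2 := by simp
  have h3 : 0 < Nat.card F := Nat.card_pos
  rw [h2] at h1
  omega

end Main

end Cfsg.Agent.H809.LabPSU
end

-- part: H809/LabTwD4
section
/-!
# The orders of the simple root groups of `³D₄(q)` (task 608, for helper601)

`|X (α₀)| ≤ q`, `|X (α₁)| ≥ q³`.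
-/

set_option autoImplicit false
set_option linter.unusedSectionVars false

namespace Cfsg.Agent.H809.LabTwD4

open CoxeterSystem Cfsg.Agent.ChevalleyStructure.CoxeterGeom Cfsg.Agent.Tits.Roots Cfsg.Agent.Tits.Core
  Cfsg.Agent.Nodes.BNOf Cfsg.Agent.Nodes.RGDTwGen Cfsg.Agent.Nodes.RGDChev Cfsg.Agent.Nodes.RGDFold
open Cfsg.Lie Cfsg.Agent.ChevalleyStructure
  Cfsg.Agent.ChevalleyStructure.TwistedU Cfsg.Agent.ChevalleyStructure.TwistedFix
open Cfsg.Agent.ChevalleyStructure.D4Comm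
open Cfsg.Agent.ChevalleyStructure.D4Pos (lprod_inj)
open Cfsg.Agent.ChevalleyStructure.GraphSymm
open Cfsg.Agent.ChevalleyStructure.D4U Cfsg.Agent.ChevalleyStructure.D4Twisted
open Cfsg.Agent.ChevalleyStructure.D4Fixed (sig)
open Cfsg.Agent.Nodes.RGDTwD4

variable {K : Type} [Field K] [Fintype K] {q : ℕ} {φ : K →+* K}

/-- the equation `t ^ q = t` has at most `q` solutions -/
theorem card_fix_le (hq : 2 ≤ q) : Nat.card {t : K // t ^ q = t} ≤ q := by
  classical
  let f : Polynomial K := Polynomial.X ^ q - Polynomial.X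
  have hf : f.natDegree = q := by
    have hdeg : (Polynomial.X : Polynomial K).natDegree < (Polynomial.X ^ q : Polynomial K).natDegree := by
      rw [Polynomial.natDegree_X, Polynomial.natDegree_X_pow]; omega
    rw [show f = Polynomial.X ^ q - Polynomial.X from rfl, Polynomial.natDegree_sub_eq_left_of_natDegree_lt hdeg,
      Polynomial.natDegree_X_pow]
  have hf0 : f ≠ 0 := by
    intro h
    rw [h, Polynomial.natDegree_zero] at hf
    omega
  have h1 : ∀ c : K, c ^ q = c → c ∈ f.roots.toFinset := by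
    intro c hc
    rw [Multiset.mem_toFinset, Polynomial.mem_roots hf0, Polynomial.IsRoot.def]
    simp only [f, Polynomial.eval_sub, Polynomial.eval_pow, Polynomial.eval_X]
    rw [hc, sub_self]
  have h2 : Nat.card {c : K // c ^ q = c} ≤ Nat.card f.roots.toFinset :=
    Nat.card_le_card_of_injective (fun c => (⟨c.1, h1 c.1 c.2⟩ : f.roots.toFinset)) fun x y e =>
      Subtype.ext (congrArg (fun z => (z.1 : K)) e)
  refine h2.trans ?_
  rw [Nat.card_eq_fintype_card, Fintype.card_coe]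
  exact (Multiset.toFinset_card_le _).trans ((Polynomial.card_roots' f).trans hf.le)

theorem card_X0_le (hq : 2 ≤ q) (hφ : ∀ x, φ x = x ^ q) : Nat.card (X φ q (sr 0)) ≤ q := by
  classical
  have key : ∀ x : X φ q (sr 0), ∃ t : K, t ^ q = t ∧ ((x : ↥(twistedD4 K q)) : GL chevD4.Idx K) = xG 14 t := by
    rintro ⟨x, hx⟩
    have h1 : (x : GL chevD4.Idx K) ∈ R chevD4 hp K J (sig φ) (sr 0) := hx
    rw [R0] at h1
    obtain ⟨t, ht, e⟩ := RS_14_fix h1.1 h1.2
    exact ⟨t, (hφ t).symm.trans ht, e⟩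
  choose f hf using key
  refine (Nat.card_le_card_of_injective (β := {t : K // t ^ q = t}) (fun x => ⟨f x, (hf x).1⟩) ?_).trans
    (card_fix_le hq)
  intro x y e
  have h1 : f x = f y := congrArg Subtype.val e
  apply Subtype.ext
  apply Subtype.ext
  rw [(hf x).2, (hf y).2, h1]

theorem card_le_X1 (hφ : ∀ x, φ x = x ^ q) (hK : Fintype.card K = q ^ 3) :
    Fintype.card K ≤ Nat.card (X φ q (sr 1)) := by
  classical
  have hle := D4Fixed.twisted_le_fix hK hφ
  have : Finite (GL chevD4.Idx K) := inferInstance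
  have hmem : ∀ t : K, (⟨D4Fixed.X φ t, D4Fixed.X_mem hφ t⟩ : ↥(twistedD4 K q)) ∈ X φ q (sr 1) := by
    intro t
    show D4Fixed.X φ t ∈ R chevD4 hp K J (sig φ) (sr 1)
    rw [R1]
    exact ⟨X_mem_RS t, hle (D4Fixed.X_mem hφ t)⟩
  rw [← Nat.card_eq_fintype_card]
  refine Nat.card_le_card_of_injective (fun t : K => (⟨_, hmem t⟩ : X φ q (sr 1))) ?_
  intro s t e
  have h1 : D4Fixed.X φ s = D4Fixed.X φ t := congrArg (fun z => ((z.1 : ↥(twistedD4 K q)) : GL chevD4.Idx K)) e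
  unfold D4Fixed.X at h1
  rw [xU_eq, xU_eq, xU_eq, xU_eq, xU_eq, xU_eq] at h1
  let ff : K → ℕ → K := fun t k => if k = 18 then t else if k = 13 then φ t else φ (φ t)
  have h3 := lprod_inj [18, 13, 12] (by decide +kernel) (t := ff s) (t' := ff t) (by
    rw [lprod_cons, lprod_cons, lprod_cons, lprod_nil, mul_one, ← mul_assoc,
      lprod_cons, lprod_cons, lprod_cons, lprod_nil, mul_one, ← mul_assoc]
    simpa [ff] using h1) 18 (by simp)
  simpa [ff] using h3

/-- **the simple root groups of `³D₄(q)` have different orders** -/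
theorem lab_twD4 {K : Type} [Field K] [Fintype K] {q : ℕ} (hq : IsPrimePow q)
    (hK : Fintype.card K = q ^ 3) (p : ℕ) [CharP K p] :
    Cfsg.Agent.H601.OddDeg.LabT p CoxeterMatrix.G₂ ↥(Cfsg.Lie.twistedD4 K q) := by
  have : Fact p.Prime := ⟨CharP.char_is_prime K p⟩
  obtain ⟨φ, hφ⟩ := ChevalleyStructure.D4Fixed.exists_frob hq hK
  refine ⟨_, Nodes.RGDTwD4.isCartan, _, _, _,
    Nodes.RGDFold.finite_W (hp := Nodes.RGDTwD4.hp) CoxeterMatrix.G₂.toCoxeterSystem Nodes.RGDTwD4.isCartan Nodes.RGDTwD4.foldData,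
    Nodes.RGDTwD4.rgd _ hK hφ p, Nodes.RGDTwD4.G1_eq_top _ hK hφ, ?_⟩
  have hq2 : 2 ≤ q := hq.two_le
  have h0 := card_X0_le hq2 hφ
  have h1 := card_le_X1 hφ hK
  have h2 : q < q ^ 3 := by
    calc q = q ^ 1 := (pow_one q).symm
      _ < q ^ 3 := Nat.pow_lt_pow_right hq2 (by norm_num)
  exact ne_of_lt (by omega)

end Cfsg.Agent.H809.LabTwD4
end
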